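import Cfsg.Agent.H654.HT.TwF4Cnt

/-!
# `HasElt p (²F₄(q)) q`, `p ≥ 5` (S4933, part (O), helper654)
-/

set_option autoImplicit false
set_option linter.unusedSectionVars false

namespace Cfsg.Agent.H654.HT

open CoxeterSystem Cfsg Cfsg.Lie Cfsg.Lie.ChevalleyDatum Finset
open Cfsg.Agent.ChevalleyStructure Cfsg.Agent.ChevalleyStructure.CoxeterGeom
  Cfsg.Agent.ChevalleyStructure.CoxeterGeomTypes
open Cfsg.Agent.H493.F4Tor Cfsg.Agent.H493.PGF4T
open Cfsg.Agent.H234.HT Cfsg.Agent.H73.HT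

variable {p M : ℕ} [hp : Fact p.Prime]

/-! ### arithmetic -/

theorem qcast (n : ℕ) : ((2 ^ (2 * n + 1) : ℕ) : ℤ) = 2 * ((2 : ℤ) ^ n) ^ 2 := by
  push_cast
  rw [← pow_mul]
  ring

/-- from `q ^ e - 1` to the factor of the order -/
theorem dvd_fac {n : ℕ} {e : ℕ} {F B : ℤ} (hid : (2 * ((2 : ℤ) ^ n) ^ 2) ^ e - 1 = F * B) (hF : (p : ℤ) ∣ F)
    (hB : ((B : ℤ) : ZMod p) ≠ 0)
    (h1 : p ^ M ∣ (2 ^ (2 * n + 1)) ^ orderOf (((2 ^ (2 * n + 1) : ℕ) : ℕ) : ZMod p) - 1) : ((p ^ M : ℕ) : ℤ) ∣ F := by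
  set q : ℕ := 2 ^ (2 * n + 1) with hq
  set o := orderOf ((q : ℕ) : ZMod p) with ho
  have hqi : (q : ℤ) = 2 * ((2 : ℤ) ^ n) ^ 2 := qcast n
  have hq1 : ((q : ℕ) : ZMod p) ^ e = 1 := by
    have h2 : (((q : ℤ) ^ e - 1 : ℤ) : ZMod p) = 0 := by
      rw [hqi, hid, int_dvd]
      exact hF.mul_right _
    push_cast at h2
    exact sub_eq_zero.1 h2
  obtain ⟨c, hc⟩ := orderOf_dvd_of_pow_eq_one hq1
  have h3 : ((p ^ M : ℕ) : ℤ) ∣ (q : ℤ) ^ o - 1 := by
    have h4 : 1 ≤ q ^ o := Nat.one_le_pow _ _ (by positivity)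
    have h5 : (((q ^ o - 1 : ℕ)) : ℤ) = (q : ℤ) ^ o - 1 := by
      rw [Nat.cast_sub h4]; push_cast; ring
    rw [← h5]
    exact_mod_cast h1
  have h6 : ((p ^ M : ℕ) : ℤ) ∣ F * B := by
    rw [← hid, ← hqi, hc, pow_mul]
    have h7 := sub_dvd_pow_sub_pow ((q : ℤ) ^ o) 1 c
    rw [one_pow] at h7
    exact h3.trans h7
  have h8 : IsCoprime ((p ^ M : ℕ) : ℤ) B := by
    rw [Nat.cast_pow]
    refine IsCoprime.pow_left ?_
    rw [Irreducible.coprime_iff_not_dvd (Nat.prime_iff_prime_int.1 hp.out).irreducible]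
    exact fun h => hB (int_dvd.2 h)
  exact h8.dvd_of_dvd_mul_right h6

/-! ### the frame -/

/-- the conclusion -/
def Con (p M : ℕ) (K : Type) [Field K] (n : ℕ) : Prop :=
  ∃ y ∈ twistedF4 K (2 ^ n), ∃ (k : Type) (_ : Field k) (f : K →+* k) (z : k) (ex : chevF4.Idx → ℕ),
    IsPrimitiveRoot z (p ^ M) ∧ Eig (y : Matrix chevF4.Idx chevF4.Idx K) f z ex ∧ Cnt p M ex

variable {K : Type} [Field K] [Fintype K] {n : ℕ}

theorem con_of (h5 : 5 ≤ p) (hK : Fintype.card K = 2 ^ (2 * n + 1)) {C : List (Fin 4 × H129.WData.Mat 4)}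
    (hC : H129.WData.ChainOK Am C) {Th : H129.WData.Mat 4} (hTh : ∀ j, H129.WData.hd C (rv j) = Th j)
    {F : ℤ → ℤ} {L : ℤ → Fin 4 → ℤ} {U : Fin 4 → ℤ} {G : ℤ → Fin 4 → ℤ} {c : ℤ} {H : ℤ → ℤ}
    (h : Cert Th F L U G c H) (hd : ((p ^ M : ℕ) : ℤ) ∣ F (2 ^ n))
    (hcnt : ∀ u : AlgebraicClosure K, IsPrimitiveRoot u (p ^ M) → ∀ A : Matrix chevF4.Idx chevF4.Idx K,
      Eig A (algebraMap K (AlgebraicClosure K)) u (exo (p ^ M) (L (2 ^ n))) → Cnt p M (exo (p ^ M) (L (2 ^ n)))) :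
    Con p M K n := by
  have hN2 : ¬ 2 ∣ p ^ M := by
    intro h2
    have h3 := (Nat.prime_dvd_prime_iff_eq Nat.prime_two hp.out).1 (Nat.prime_two.dvd_of_dvd_pow h2)
    omega
  obtain ⟨y, hy, u, hu, hE⟩ := exists_y hK hC hTh hN2 (L := L (2 ^ n)) fun j => h.hL hd j
  exact ⟨y, hy, AlgebraicClosure K, inferInstance, algebraMap K _, u, _, hu, hE, hcnt u hu _ hE⟩

/-- the Frobenius map of `K` on the exponents -/
theorem nm_q (h5 : 5 ≤ p) (hM : 1 ≤ M) (hK : Fintype.card K = 2 ^ (2 * n + 1)) {A : Matrix chevF4.Idx chevF4.Idx K}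
    {u : AlgebraicClosure K} (hu : IsPrimitiveRoot u (p ^ M)) {ex : chevF4.Idx → ℕ}
    (hE : Eig A (algebraMap K (AlgebraicClosure K)) u ex) (t : ZMod p) :
    nm p ex (((2 ^ (2 * n + 1) : ℕ) : ZMod p) * t) = nm p ex t := by
  classical
  have : Fact (Nat.Prime 2) := ⟨Nat.prime_two⟩
  have hc2 : CharP K 2 := F4Fixed.charP_two hK
  have hc2' : CharP (AlgebraicClosure K) 2 := charP_of_injective_algebraMap (algebraMap K _).injective 2
  have hpq : ¬ p ∣ 2 ^ (2 * n + 1) := by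
    intro h
    have h3 := (Nat.prime_dvd_prime_iff_eq hp.out Nat.prime_two).1 (hp.out.dvd_of_dvd_pow h)
    omega
  refine nm_stable hM hu hpq (φ := iterateFrobenius (AlgebraicClosure K) 2 (2 * n + 1)) (iterateFrobenius_def _ _ _) ?_ t
  have h1 : (iterateFrobenius (AlgebraicClosure K) 2 (2 * n + 1)).comp (algebraMap K (AlgebraicClosure K)) =
      algebraMap K (AlgebraicClosure K) := by
    ext x
    rw [RingHom.comp_apply, iterateFrobenius_def, ← map_pow, ← hK, FiniteField.pow_card]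
  have h2 : A.charpoly.map (algebraMap K (AlgebraicClosure K)) = ∏ i, (Polynomial.X - Polynomial.C (u ^ ex i)) := by
    rw [← Matrix.charpoly_map]
    exact hE
  rw [← h2, Polynomial.map_map, h1]

/-- the generic bound -/
theorem cnt_big (h5 : 5 ≤ p) (hM : 2 ≤ M) (hK : Fintype.card K = 2 ^ (2 * n + 1))
    {A : Matrix chevF4.Idx chevF4.Idx K} {u : AlgebraicClosure K} (hu : IsPrimitiveRoot u (p ^ M)) {L : Fin 4 → ℤ}
    (hE : Eig A (algebraMap K (AlgebraicClosure K)) u (exo (p ^ M) L)) {s : Fin 48}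
    (hs : ((rt L s : ℤ) : ZMod p) ≠ 0) {e : ℕ} (he : orderOf (((2 ^ (2 * n + 1) : ℕ)) : ZMod p) = e)
    (hpe : 53 ≤ p * e) : Cnt p M (exo (p ^ M) L) := by
  have hq0 : (((2 ^ (2 * n + 1) : ℕ)) : ZMod p) ≠ 0 := by
    intro h
    rw [ZMod.natCast_eq_zero_iff] at h
    have h3 := (Nat.prime_dvd_prime_iff_eq hp.out Nat.prime_two).1 (hp.out.dvd_of_dvd_pow h)
    omega
  refine cnt_of_unit hM _ (Units.mk0 _ hq0) (fun t => nm_q h5 (by omega) hK hu hE t) (i₀ := ir s) ?_ ?_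
  · intro h
    apply hs
    rw [← exo_cast (by omega : 1 ≤ M)]
    exact (ZMod.natCast_eq_zero_iff _ _).2 h
  · have h1 : (univ.filter fun i : chevF4.Idx => ((exo (p ^ M) L i : ℕ) : ZMod p) ≠ 0).card ≤ 52 :=
      (card_le_univ _).trans (by decide)
    have h2 : orderOf (Units.mk0 _ hq0) = e := by rw [← orderOf_units, Units.val_mk0, he]
    rw [h2]
    omega

/-- orders -/
theorem ord_six (h5 : 5 ≤ p) {g : ZMod p} (hg : g ^ 2 - g + 1 = 0) : orderOf g = 6 := by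
  have h2 := two_ne h5
  have h3 := three_ne h5
  have e3 : g ^ 3 = -1 := by linear_combination (g + 1) * hg
  refine orderOf_eq_of_pow_and_pow_div_prime (by norm_num) ?_ ?_
  · rw [show (6 : ℕ) = 3 * 2 by norm_num, pow_mul, e3]; ring
  · intro r hr hd
    have h6 : r = 2 ∨ r = 3 := by
      rw [show (6 : ℕ) = 2 * 3 by norm_num] at hd
      rcases hr.dvd_mul.1 hd with h | h
      · exact Or.inl ((Nat.prime_dvd_prime_iff_eq hr Nat.prime_two).1 h)
      · exact Or.inr ((Nat.prime_dvd_prime_iff_eq hr Nat.prime_three).1 h)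
    rcases h6 with rfl | rfl
    · rw [show 6 / 2 = 3 by norm_num, e3]
      intro h
      exact h2 (by linear_combination -h)
    · rw [show 6 / 3 = 2 by norm_num]
      intro h
      have h7 : g = 2 := by linear_combination h - hg
      rw [h7] at h
      exact h3 (by linear_combination h)

theorem ord_twelve (h5 : 5 ≤ p) {g : ZMod p} (hg : g ^ 4 - g ^ 2 + 1 = 0) : orderOf g = 12 := by
  have h2 := two_ne h5
  have h3 := three_ne h5
  have e3 : g ^ 6 = -1 := by linear_combination (g ^ 2 + 1) * hg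
  refine orderOf_eq_of_pow_and_pow_div_prime (by norm_num) ?_ ?_
  · rw [show (12 : ℕ) = 6 * 2 by norm_num, pow_mul, e3]; ring
  · intro r hr hd
    have h6 : r = 2 ∨ r = 3 := by
      rw [show (12 : ℕ) = 2 ^ 2 * 3 by norm_num] at hd
      rcases hr.dvd_mul.1 hd with h | h
      · exact Or.inl ((Nat.prime_dvd_prime_iff_eq hr Nat.prime_two).1 (hr.dvd_of_dvd_pow h))
      · exact Or.inr ((Nat.prime_dvd_prime_iff_eq hr Nat.prime_three).1 h)
    rcases h6 with rfl | rfl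
    · rw [show 12 / 2 = 6 by norm_num, e3]
      intro h
      exact h2 (by linear_combination -h)
    · rw [show 12 / 3 = 4 by norm_num]
      intro h
      have h7 : g ^ 2 = 2 := by linear_combination h - hg
      have h8 : g ^ 4 = 4 := by rw [show 4 = 2 * 2 by norm_num, pow_mul, h7]; ring
      exact h3 (by linear_combination h - h8)

theorem qz (n : ℕ) : (((2 ^ (2 * n + 1) : ℕ)) : ZMod p) = 2 * ((2 : ZMod p) ^ n) ^ 2 := by
  push_cast
  rw [← pow_mul]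
  ring

/-! ### the seven factors -/

section

variable (h5 : 5 ≤ p) (hM : 2 ≤ M) (hK : Fintype.card K = 2 ^ (2 * n + 1))

include h5 hM hK

theorem con_f1 (hd : ((p ^ M : ℕ) : ℤ) ∣ f1 (2 ^ n)) : Con p M K n := by
  have hz : 2 * ((2 : ZMod p) ^ n) ^ 2 = 1 := by
    have h1 := int_dvd.2 ((show (p : ℤ) ∣ ((p ^ M : ℕ) : ℤ) by exact_mod_cast dvd_pow_self p (by omega)).trans hd)
    unfold f1 at h1
    push_cast at h1
    linear_combination h1
  refine con_of h5 hK chainA_ok hThA certA_f1 hd fun u hu A hE => ?_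
  have ht : 2 * (2 : ZMod p) ^ n + 1 ≠ 0 := by
    intro h
    exact one_ne_zero (α := ZMod p) (by linear_combination (2 * (2 : ZMod p) ^ n - 1) * h - 2 * hz)
  refine cnt_of_mod hM _ ht ?_
  rw [nm_exo (by omega) _ ht]
  convert count1 h5 hz using 3
  ext s
  simp only [mem_filter, mem_univ, true_and]
  have h1 : ((rt ((fun b : ℤ => ![-2 * b ^ 3 + b, 2 * b ^ 3, 1, 2 * b ^ 2 - 1]) (2 ^ n)) s : ℤ) : ZMod p) =
      ((v s 1 : ℤ) : ZMod p) * 2 ^ n + ((v s 2 : ℤ) : ZMod p) := by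
    rw [rt_eq]
    simp only [Matrix.cons_val_zero, Matrix.cons_val_one, Matrix.cons_val]
    push_cast
    linear_combination (-(v s 0 : ZMod p) * 2 ^ n + (v s 1 : ZMod p) * 2 ^ n + (v s 3 : ZMod p)) * hz
  rw [h1]

theorem con_f2 (hd : ((p ^ M : ℕ) : ℤ) ∣ f2 (2 ^ n)) : Con p M K n := by
  have hz : 2 * ((2 : ZMod p) ^ n) ^ 2 = -1 := by
    have h1 := int_dvd.2 ((show (p : ℤ) ∣ ((p ^ M : ℕ) : ℤ) by exact_mod_cast dvd_pow_self p (by omega)).trans hd)
    unfold f2 at h1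
    push_cast at h1
    linear_combination h1
  refine con_of h5 hK chainA_ok hThA certA_f2 hd fun u hu A hE => ?_
  refine cnt_of_mod hM _ (one_ne_zero (α := ZMod p)) ?_
  rw [nm_exo (by omega) _ (one_ne_zero (α := ZMod p))]
  convert count2 h5 hz using 3
  ext s
  simp only [mem_filter, mem_univ, true_and]
  have h1 : ((rt ((fun b : ℤ => ![-2 * b ^ 3 + b, 2 * b ^ 3, 1, 2 * b ^ 2 - 1]) (2 ^ n)) s : ℤ) : ZMod p) =
      ((2 * v s 0 - v s 1 : ℤ) : ZMod p) * 2 ^ n + ((v s 2 - 2 * v s 3 : ℤ) : ZMod p) := by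
    rw [rt_eq]
    simp only [Matrix.cons_val_zero, Matrix.cons_val_one, Matrix.cons_val]
    push_cast
    linear_combination (-(v s 0 : ZMod p) * 2 ^ n + (v s 1 : ZMod p) * 2 ^ n + (v s 3 : ZMod p)) * hz
  rw [h1]

/-- `q² + 1`, the exponents `cx β + cy` -/
theorem cnt_four {L : Fin 4 → ℤ} {β : ℤ} (hβ : ((p ^ M : ℕ) : ℤ) ∣ 2 * β ^ 2 - 2 * β + 1)
    (hL : ∀ s, ((p ^ M : ℕ) : ℤ) ∣ rt L s - (cx s * β + cy s)) : Cnt p M (exo (p ^ M) L) := by
  by_cases hp5 : p = 5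
  · subst hp5
    exact cnt_five hM L hβ hL
  have hpN : (p : ℤ) ∣ ((p ^ M : ℕ) : ℤ) := by exact_mod_cast dvd_pow_self p (by omega)
  have hz : 2 * (β : ZMod p) ^ 2 - 2 * (β : ZMod p) + 1 = 0 := by
    have h1 := int_dvd.2 (hpN.trans hβ)
    push_cast at h1
    exact h1
  refine cnt_of_mod hM _ (one_ne_zero (α := ZMod p)) ?_
  rw [nm_exo (by omega) _ (one_ne_zero (α := ZMod p))]
  convert count4 h5 hp5 hz using 3
  ext s
  simp only [mem_filter, mem_univ, true_and]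
  have h1 : ((rt L s : ℤ) : ZMod p) = ((cx s : ℤ) : ZMod p) * (β : ZMod p) + ((cy s : ℤ) : ZMod p) := by
    have h2 := int_dvd.2 (hpN.trans (hL s))
    push_cast at h2
    linear_combination h2
  rw [h1]

theorem con_fp (hd : ((p ^ M : ℕ) : ℤ) ∣ fp (2 ^ n)) : Con p M K n := by
  refine con_of h5 hK chainB_ok hThB certB_fp hd fun u hu A hE => ?_
  refine cnt_four h5 hM hK (β := -2 ^ n) ?_ fun s => ?_
  · have e : 2 * (-2 ^ n : ℤ) ^ 2 - 2 * (-2 ^ n) + 1 = fp (2 ^ n) := by unfold fp; ring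
    rw [e]
    exact hd
  · rw [rt_eq]
    simp only [Matrix.cons_val_zero, Matrix.cons_val_one, Matrix.cons_val]
    refine hd.trans ⟨-v s 0 * (2 ^ n - 1) + v s 1 * (2 ^ n - 1) + v s 2, ?_⟩
    unfold cx cy fp
    ring

theorem con_fm (hd : ((p ^ M : ℕ) : ℤ) ∣ fm (2 ^ n)) : Con p M K n := by
  refine con_of h5 hK chainC_ok hThC certC_fm hd fun u hu A hE => ?_
  refine cnt_four h5 hM hK (β := 2 ^ n) ?_ fun s => ?_
  · exact hd
  · rw [rt_eq]
    simp only [Matrix.cons_val_zero, Matrix.cons_val_one, Matrix.cons_val]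
    refine hd.trans ⟨-v s 1 * (2 ^ n + 1) + v s 2 - v s 3, ?_⟩
    unfold cx cy fm
    ring

theorem con_f6 (hd : ((p ^ M : ℕ) : ℤ) ∣ f6 (2 ^ n)) : Con p M K n := by
  have hz : 4 * ((2 : ZMod p) ^ n) ^ 4 - 2 * ((2 : ZMod p) ^ n) ^ 2 + 1 = 0 := by
    have h1 := int_dvd.2 ((show (p : ℤ) ∣ ((p ^ M : ℕ) : ℤ) by exact_mod_cast dvd_pow_self p (by omega)).trans hd)
    unfold f6 at h1
    push_cast at h1
    linear_combination h1
  have hp11 : 11 ≤ p := by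
    by_contra hlt
    have h7 : p = 5 ∨ p = 6 ∨ p = 7 ∨ p = 8 ∨ p = 9 ∨ p = 10 := by omega
    rcases h7 with rfl | rfl | rfl | rfl | rfl | rfl
    · exact no_six.1 _ hz
    · exact absurd hp.out (by norm_num)
    · exact no_six.2 _ hz
    · exact absurd hp.out (by norm_num)
    · exact absurd hp.out (by norm_num)
    · exact absurd hp.out (by norm_num)
  refine con_of h5 hK chainD_ok hThD certD_f6 hd fun u hu A hE => ?_
  obtain ⟨s, h0, h1, h2, h3⟩ := roots_D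
  refine cnt_big h5 hM hK hu hE (s := s) ?_ (ord_six h5 (g := (((2 ^ (2 * n + 1) : ℕ)) : ZMod p)) ?_) (by omega)
  · rw [rt_eq, h0, h1, h2, h3]
    simp only [Matrix.cons_val_zero, Matrix.cons_val_one, Matrix.cons_val]
    push_cast
    intro h
    exact one_ne_zero (α := ZMod p) (by linear_combination -h)
  · rw [qz]
    linear_combination hz

theorem con_fP (hd : ((p ^ M : ℕ) : ℤ) ∣ fP (2 ^ n)) : Con p M K n := by
  have hz : 4 * ((2 : ZMod p) ^ n) ^ 4 + 4 * ((2 : ZMod p) ^ n) ^ 3 + 2 * ((2 : ZMod p) ^ n) ^ 2 +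
      2 * (2 : ZMod p) ^ n + 1 = 0 := by
    have h1 := int_dvd.2 ((show (p : ℤ) ∣ ((p ^ M : ℕ) : ℤ) by exact_mod_cast dvd_pow_self p (by omega)).trans hd)
    unfold fP at h1
    push_cast at h1
    linear_combination h1
  refine con_of h5 hK chainEp_ok hThEp certEp_fP hd fun u hu A hE => ?_
  obtain ⟨s, h0, h1, h2, h3⟩ := roots_E
  refine cnt_big h5 hM hK hu hE (s := s) ?_ (ord_twelve h5 (g := (((2 ^ (2 * n + 1) : ℕ)) : ZMod p)) ?_) (by omega)
  · rw [rt_eq, h0, h1, h2, h3]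
    simp only [Matrix.cons_val_zero, Matrix.cons_val_one, Matrix.cons_val]
    push_cast
    intro h
    exact one_ne_zero (α := ZMod p) (by linear_combination h)
  · rw [qz]
    linear_combination (4 * ((2 : ZMod p) ^ n) ^ 4 - 4 * ((2 : ZMod p) ^ n) ^ 3 + 2 * ((2 : ZMod p) ^ n) ^ 2 -
      2 * (2 : ZMod p) ^ n + 1) * hz

theorem con_fM (hd : ((p ^ M : ℕ) : ℤ) ∣ fM (2 ^ n)) : Con p M K n := by
  have hz : 4 * ((2 : ZMod p) ^ n) ^ 4 - 4 * ((2 : ZMod p) ^ n) ^ 3 + 2 * ((2 : ZMod p) ^ n) ^ 2 -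
      2 * (2 : ZMod p) ^ n + 1 = 0 := by
    have h1 := int_dvd.2 ((show (p : ℤ) ∣ ((p ^ M : ℕ) : ℤ) by exact_mod_cast dvd_pow_self p (by omega)).trans hd)
    unfold fM at h1
    push_cast at h1
    linear_combination h1
  refine con_of h5 hK chainEm_ok hThEm certEm_fM hd fun u hu A hE => ?_
  obtain ⟨s, h0, h1, h2, h3⟩ := roots_D
  refine cnt_big h5 hM hK hu hE (s := s) ?_ (ord_twelve h5 (g := (((2 ^ (2 * n + 1) : ℕ)) : ZMod p)) ?_) (by omega)
  · rw [rt_eq, h0, h1, h2, h3]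
    simp only [Matrix.cons_val_zero, Matrix.cons_val_one, Matrix.cons_val]
    push_cast
    intro h
    exact one_ne_zero (α := ZMod p) (by linear_combination -h)
  · rw [qz]
    linear_combination (4 * ((2 : ZMod p) ^ n) ^ 4 + 4 * ((2 : ZMod p) ^ n) ^ 3 + 2 * ((2 : ZMod p) ^ n) ^ 2 +
      2 * (2 : ZMod p) ^ n + 1) * hz

end

/-- **`²F₄(q)`, `q = 2 ^ (2 n + 1)`, `p ≥ 5`.** -/
theorem hasElt_twF4 (h5 : 5 ≤ p) (hK : Fintype.card K = 2 ^ (2 * n + 1))
    (hd : p ∣ Nat.card ↥(twistedF4 K (2 ^ n))) : HasElt p (twistedF4 K (2 ^ n)) (2 ^ (2 * n + 1)) := by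
  intro M hM hM1 _
  show Con p M K n
  rw [S1068.result hK] at hd
  have h2 := two_ne h5
  have h3 := three_ne h5
  rcases cover hp.out hd with (rfl | h | h | h | h | h) | h | h
  · omega
  · refine con_f1 h5 hM hK (dvd_fac (e := 1) (B := 1) ?_ h ?_ hM1)
    · unfold f1; ring
    · push_cast; exact one_ne_zero
  · refine con_f2 h5 hM hK (dvd_fac (e := 2) (B := f1 (2 ^ n)) ?_ h ?_ hM1)
    · unfold f1 f2; ring
    · have hz := int_dvd.2 h
      unfold f2 at hz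
      unfold f1
      push_cast at hz ⊢
      intro h0
      exact h2 (by linear_combination hz - h0)
  · refine con_fp h5 hM hK (dvd_fac (e := 4) (B := fm (2 ^ n) * (4 * (2 ^ n) ^ 4 - 1)) ?_ h ?_ hM1)
    · unfold fm fp; ring
    · have hz := int_dvd.2 h
      unfold fp at hz
      unfold fm
      push_cast at hz ⊢
      refine mul_ne_zero (fun h0 => ?_) (fun h0 => ?_)
      · exact h2 (by linear_combination (1 - (2 : ZMod p) ^ n) * hz + (1 + (2 : ZMod p) ^ n) * h0)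
      · exact h2 (by linear_combination (2 * ((2 : ZMod p) ^ n) ^ 2 - 2 * (2 : ZMod p) ^ n + 1) * hz - h0)
  · refine con_fm h5 hM hK (dvd_fac (e := 4) (B := fp (2 ^ n) * (4 * (2 ^ n) ^ 4 - 1)) ?_ h ?_ hM1)
    · unfold fm fp; ring
    · have hz := int_dvd.2 h
      unfold fm at hz
      unfold fp
      push_cast at hz ⊢
      refine mul_ne_zero (fun h0 => ?_) (fun h0 => ?_)
      · exact h2 (by linear_combination (1 + (2 : ZMod p) ^ n) * hz + (1 - (2 : ZMod p) ^ n) * h0)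
      · exact h2 (by linear_combination (2 * ((2 : ZMod p) ^ n) ^ 2 + 2 * (2 : ZMod p) ^ n + 1) * hz - h0)
  · refine con_f6 h5 hM hK (dvd_fac (e := 6) (B := f2 (2 ^ n) * (8 * (2 ^ n) ^ 6 - 1)) ?_ h ?_ hM1)
    · unfold f2 f6; ring
    · have hz := int_dvd.2 h
      unfold f6 at hz
      unfold f2
      push_cast at hz ⊢
      refine mul_ne_zero (fun h0 => ?_) (fun h0 => ?_)
      · exact h3 (by linear_combination hz - (2 * ((2 : ZMod p) ^ n) ^ 2 - 2) * h0)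
      · exact h2 (by linear_combination (2 * ((2 : ZMod p) ^ n) ^ 2 + 1) * hz - h0)
  · refine con_fP h5 hM hK (dvd_fac (e := 12)
      (B := fM (2 ^ n) * ((4 * (2 ^ n) ^ 4 + 1) * (64 * (2 ^ n) ^ 12 - 1))) ?_ h ?_ hM1)
    · unfold fM fP; ring
    · have hz := int_dvd.2 h
      unfold fP at hz
      unfold fM
      push_cast at hz ⊢
      refine mul_ne_zero (fun h0 => ?_) (mul_ne_zero (fun h0 => ?_) (fun h0 => ?_))
      · exact h2 (by linear_combination 2 * hz - ((2 : ZMod p) ^ n + 1) * (hz - h0))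
      · exact h3 (by linear_combination (4 * ((2 : ZMod p) ^ n) ^ 4 - 4 * ((2 : ZMod p) ^ n) ^ 3 +
          2 * ((2 : ZMod p) ^ n) ^ 2 - 2 * (2 : ZMod p) ^ n + 1) * hz - (4 * ((2 : ZMod p) ^ n) ^ 4 - 2) * h0)
      · exact h2 (by linear_combination (4 * ((2 : ZMod p) ^ n) ^ 4 + 1) * (4 * ((2 : ZMod p) ^ n) ^ 4 -
          4 * ((2 : ZMod p) ^ n) ^ 3 + 2 * ((2 : ZMod p) ^ n) ^ 2 - 2 * (2 : ZMod p) ^ n + 1) * hz - h0)
  · refine con_fM h5 hM hK (dvd_fac (e := 12)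
      (B := fP (2 ^ n) * ((4 * (2 ^ n) ^ 4 + 1) * (64 * (2 ^ n) ^ 12 - 1))) ?_ h ?_ hM1)
    · unfold fM fP; ring
    · have hz := int_dvd.2 h
      unfold fM at hz
      unfold fP
      push_cast at hz ⊢
      refine mul_ne_zero (fun h0 => ?_) (mul_ne_zero (fun h0 => ?_) (fun h0 => ?_))
      · exact h2 (by linear_combination 2 * hz - ((2 : ZMod p) ^ n - 1) * (h0 - hz))
      · exact h3 (by linear_combination (4 * ((2 : ZMod p) ^ n) ^ 4 + 4 * ((2 : ZMod p) ^ n) ^ 3 +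
          2 * ((2 : ZMod p) ^ n) ^ 2 + 2 * (2 : ZMod p) ^ n + 1) * hz - (4 * ((2 : ZMod p) ^ n) ^ 4 - 2) * h0)
      · exact h2 (by linear_combination (4 * ((2 : ZMod p) ^ n) ^ 4 + 1) * (4 * ((2 : ZMod p) ^ n) ^ 4 +
          4 * ((2 : ZMod p) ^ n) ^ 3 + 2 * ((2 : ZMod p) ^ n) ^ 2 + 2 * (2 : ZMod p) ^ n + 1) * hz - h0)

end Cfsg.Agent.H654.HT
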