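import Cfsg.Agent.H129.SuzT
import Cfsg.Agent.H493.PGF4T
import Cfsg.Agent.H395.HT.TorY
import Cfsg.Agent.H73.HT.Cnt

/-!
# Elements of the tori of `²F₄(q)` with prescribed root values (S4933, part (O), helper654)

`exists_y` : `w` in the Weyl group (a chain), `L` an integral linear form adapted to `w` modulo an odd `N`: there is `y` in
`twistedF4 K (2 ^ m)` with the eigenvalues `u ^ ex` on the Lie algebra of type `F₄`, `u` a primitive `N`-th root of unity.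
-/

set_option autoImplicit false
set_option linter.unusedSectionVars false

namespace Cfsg.Agent.H654.HT

open CoxeterSystem Cfsg Cfsg.Lie Cfsg.Lie.ChevalleyDatum
open Cfsg.Agent.ChevalleyStructure Cfsg.Agent.ChevalleyStructure.Elts Cfsg.Agent.ChevalleyStructure.CoxeterGeom
  Cfsg.Agent.ChevalleyStructure.CoxeterGeomTypes Cfsg.Agent.ChevalleyStructure.NPerm
open Cfsg.Agent.Tits.Roots Cfsg.Agent.Tits.Core Cfsg.Agent.Nodes Cfsg.Agent.Nodes.Reps Cfsg.Agent.Nodes.BNOf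
  Cfsg.Agent.Nodes.RGDChev Cfsg.Agent.Nodes.Bruhat
open Cfsg.Agent.KFacts.RgdField Cfsg.Agent.KFacts.RgdChevCoord Cfsg.Agent.BpExc.TorCent Cfsg.Agent.BpExc.TorChev
open Cfsg.Agent.GpExc.Field Cfsg.Agent.BpExc.Tow Cfsg.Agent.BpExc.TowChev
  Cfsg.Agent.BpExc.LangFr Cfsg.Agent.BpExc Cfsg.Agent.H129.TorusChar Cfsg.Agent.H129.TorusUntw
open Cfsg.Agent.H493.F4End Cfsg.Agent.H493.F4Tor Cfsg.Agent.H129.SuzT
open Cfsg.Agent.H234.HT

universe u

/-- the value of the form `L` at the root `s` -/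
def rt (L : Fin 4 → ℤ) (s : Fin 48) : ℤ := La L (vec chevF4 4 s)

/-- the exponents modulo `N` -/
def exo (N : ℕ) (L : Fin 4 → ℤ) : chevF4.Idx → ℕ :=
  Sum.elim (fun _ => 0) (fun s : Fin chevF4.nroots => ((rt L s) % (N : ℤ)).toNat)

theorem exists_y {K : Type u} [Field K] [Fintype K] {m : ℕ} (hK : Fintype.card K = 2 ^ (2 * m + 1))
    {C : List (Fin 4 × H129.WData.Mat 4)} (hC : H129.WData.ChainOK H493.PGF4T.Am C) {Th : Fin 4 → Fin 4 → ℤ}
    (hTh : ∀ j, H129.WData.hd C (rv j) = Th j) {N : ℕ} (hN2 : ¬ 2 ∣ N) {L : Fin 4 → ℤ}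
    (hL : ∀ j, (N : ℤ) ∣ ∑ i, Th j i * L i - (eN j * 2 ^ m : ℕ) * L j) :
    ∃ y ∈ twistedF4 K (2 ^ m), ∃ u : AlgebraicClosure K, IsPrimitiveRoot u N ∧
      Eig (y : Matrix chevF4.Idx chevF4.Idx K) (algebraMap K (AlgebraicClosure K)) u (exo N L) := by
  classical
  have : Fact (Nat.Prime 2) := ⟨Nat.prime_two⟩
  have hN0 : N ≠ 0 := by rintro rfl; exact hN2 (dvd_zero 2)
  have hc2 : CharP K 2 := F4Fixed.charP_two hK
  obtain ⟨p, e, hpF, hpc, hpk, he, hpe, hk⟩ := exists_closure hK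
  have hp2 : p = 2 := CharP.eq K hpc hc2
  subst hp2
  let k := AlgebraicClosure K
  let f : K →+* k := algebraMap K k
  let cs := CoxeterMatrix.F₄.toCoxeterSystem
  have hN : NSys CoxeterMatrix.F₄ (TT chevF4 k) (nc hp k) := nsys_of_locFin hp cs hk 2
  have hNk : (N : k) ≠ 0 := by
    rw [Ne, CharP.cast_eq_zero_iff k 2]
    exact hN2
  have : NeZero (N : k) := ⟨hNk⟩
  have : NeZero N := ⟨hN0⟩
  obtain ⟨n, hn⟩ := exists_rp cs hN (cs.wordProd (C.map Prod.fst))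
  obtain ⟨z, hz⟩ := Cfsg.Agent.H493.F4Lang.lang_ste m n
  obtain ⟨u, hu⟩ := HasEnoughRootsOfUnity.exists_primitiveRoot k N
  have hu0 : u ≠ 0 := hu.ne_zero hN0
  have hone : ∀ z : ℤ, u ^ z = 1 ↔ (N : ℤ) ∣ z := fun z => hu.zpow_eq_one_iff_dvd z
  have hw : ∀ j, rep cs hp.isCartan (cs.wordProd (C.map Prod.fst)) (sr (rv j)) = Th j := fun j => by
    rw [H129.WData.chain_rep hp cs H493.PGF4T.hA hC, hTh]
  have hMC : IsMC (fun x : Fin 4 → ℤ => u ^ La L x) :=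
    ⟨by show u ^ La L 0 = 1; rw [La_zero, zpow_zero],
      fun x y => by show u ^ La L (x + y) = _; rw [La_add, zpow_add₀ hu0]⟩
  obtain ⟨t, ht, hcX⟩ := exists_cX hp invC_F4 one_ne_zero hMC fun i => ⟨_, pow_one _⟩
  have hcX' : ∀ x, cX hp t x = u ^ La L x := hcX
  have hfix : n * ste k m t * n⁻¹ = t := by
    rw [fix_iff cs hk hn hw m ht]
    intro j
    obtain ⟨a, ha⟩ := hL j
    have h1 : La L (Th j) = La L (sr j) * ((eN j * 2 ^ m : ℕ) : ℤ) + (N : ℤ) * a := by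
      rw [La_sr]
      unfold La
      rw [← ha]; ring
    rw [hcX', hcX', h1, zpow_add₀ hu0, (hone _).2 (dvd_mul_right _ _), mul_one, zpow_mul, zpow_natCast]
  have hσz : ste k m z = z * n := by rw [hz]; group
  have hfz : ste k m (z * t * z⁻¹) = z * t * z⁻¹ := by
    rw [map_mul, map_mul, map_inv, hσz]
    calc z * n * ste k m t * (z * n)⁻¹ = z * (n * ste k m t * n⁻¹) * z⁻¹ := by group
      _ = _ := by rw [hfix]
  obtain ⟨g, hg, hgm⟩ := exists_fin f hK hfz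
  refine ⟨(g : GL chevF4.Idx K), hgm, u, hu, ?_⟩
  unfold Eig
  have h2 : ((g : GL chevF4.Idx K) : Matrix chevF4.Idx chevF4.Idx K).map f =
      (((z * t * z⁻¹ : ↥(chevF4.group k)) : GL chevF4.Idx k) : Matrix chevF4.Idx chevF4.Idx k) := by
    rw [← hg]
    rfl
  rw [h2]
  have h4 : (((z * t * z⁻¹ : ↥(chevF4.group k)) : GL chevF4.Idx k) : Matrix chevF4.Idx chevF4.Idx k) =
      ((z : GL chevF4.Idx k) : Matrix chevF4.Idx chevF4.Idx k) *
        (((t : ↥(chevF4.group k)) : GL chevF4.Idx k) : Matrix chevF4.Idx chevF4.Idx k) *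
        (((z : GL chevF4.Idx k)⁻¹ : GL chevF4.Idx k) : Matrix chevF4.Idx chevF4.Idx k) := by
    rw [Subgroup.coe_mul, Subgroup.coe_mul, Subgroup.coe_inv, Units.val_mul, Units.val_mul]
  have h5 : (((z : GL chevF4.Idx k) : Matrix chevF4.Idx chevF4.Idx k) *
      (((t : ↥(chevF4.group k)) : GL chevF4.Idx k) : Matrix chevF4.Idx chevF4.Idx k) *
        (((z : GL chevF4.Idx k)⁻¹ : GL chevF4.Idx k) : Matrix chevF4.Idx chevF4.Idx k)).charpoly =
      (((t : ↥(chevF4.group k)) : GL chevF4.Idx k) : Matrix chevF4.Idx chevF4.Idx k).charpoly := by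
    have h6 := Matrix.charpoly_units_conj (z : GL chevF4.Idx k)
      (((t : ↥(chevF4.group k)) : GL chevF4.Idx k) : Matrix chevF4.Idx chevF4.Idx k)
    rw [← Matrix.coe_units_inv] at h6
    exact h6
  rw [h4, h5, H395.HT.TT_diag hp ht, Matrix.charpoly_diagonal]
  refine Finset.prod_congr rfl fun i _ => ?_
  rcases i with i | s
  · simp [exo]
  · have hN1 : (0 : ℤ) ≤ rt L s % (N : ℤ) := Int.emod_nonneg _ (by exact_mod_cast hN0)
    have h7 : La L (vec chevF4 4 s) = (((rt L s % (N : ℤ)).toNat : ℕ) : ℤ) + (N : ℤ) * (rt L s / (N : ℤ)) := by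
      rw [Int.toNat_of_nonneg hN1, Int.emod_add_mul_ediv]
      rfl
    have h8 : u ^ La L (vec chevF4 4 s) = u ^ ((rt L s % (N : ℤ)).toNat) := by
      rw [h7, zpow_add₀ hu0, (hone _).2 (dvd_mul_right _ _), mul_one, zpow_natCast]
    have h9 : cX hp t (vec chevF4 4 s) = u ^ ((rt L s % (N : ℤ)).toNat) := (hcX' _).trans h8
    simp only [Sum.elim_inr, exo]
    rw [h9]

end Cfsg.Agent.H654.HT
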